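import Mathlib
import Cfsg.Agent.Lib.ReeG2.Group

/-!
Invariant biadditive maps on the field of a small Ree group.
-/

set_option autoImplicit false
set_option linter.unusedSectionVars false

namespace CfsgLib.ReeMultiplier

open CfsgLib.ReeG2 (IsRee three)
open Polynomial

variable {K : Type*} [Field K] [CharP K 3] {M : Type*} [CommGroup M] (β : K → K → M)

variable (hl : ∀ a a' c, β (a + a') c = β a c * β a' c) (hr : ∀ a c c', β a (c + c') = β a c * β a c')

include hl in
theorem zero_left (c : K) : β 0 c = 1 := by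
  have := hl 0 0 c
  rw [add_zero] at this
  exact left_eq_mul.1 this

include hr in
theorem zero_right (a : K) : β a 0 = 1 := by
  have := hr a 0 0
  rw [add_zero] at this
  exact left_eq_mul.1 this

include hl in
theorem neg_left (a c : K) : β (-a) c = (β a c)⁻¹ := by
  refine eq_inv_of_mul_eq_one_left ?_
  rw [← hl, neg_add_cancel, zero_left β hl]

include hr in
theorem neg_right (a c : K) : β a (-c) = (β a c)⁻¹ := by
  refine eq_inv_of_mul_eq_one_left ?_
  rw [← hr, neg_add_cancel, zero_right β hr]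

include hl in
theorem eq_one_of_neg (hs : ∀ a c, β (-a) c = β a c) (a c : K) : β a c = 1 := by
  have h2 : β a c * β a c = 1 := by
    nth_rw 1 [← hs a c]
    rw [neg_left β hl, inv_mul_cancel]
  have h3 : β a c * β a c * β a c = 1 := by
    rw [← hl, ← hl, show a + a + a = 0 by linear_combination a * three (K := K), zero_left β hl]
  rwa [h2, one_mul] at h3

include hl hr in
/-- `β(k a, μ k c) = β(a, c)` kills `β` once `x ↦ (μ x)⁻¹` is not additive. -/
theorem eq_one_of_weight (μ : K → K) (hinv : ∀ k, k ≠ 0 → ∀ a c, β (k * a) (μ k * c) = β a c)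
    {x : K} (hx0 : x ≠ 0) (hx1 : 1 + x ≠ 0) (hμ0 : μ x ≠ 0) (hμ1 : μ (1 + x) ≠ 0)
    (hx : μ x - μ (1 + x) - μ x * μ (1 + x) ≠ 0) (a c : K) : β a c = 1 := by
  have hmove : ∀ k, k ≠ 0 → μ k ≠ 0 → ∀ a c, β (k * a) c = β a ((μ k)⁻¹ * c) := fun k hk hμ a c => by
    rw [← hinv k hk a ((μ k)⁻¹ * c), mul_inv_cancel_left₀ hμ]
  set d := (μ (1 + x))⁻¹ - 1 - (μ x)⁻¹ with hd
  have hd0 : d ≠ 0 := by
    intro e
    apply hx
    have h2 : d * (μ (1 + x) * μ x) = μ x - μ (1 + x) - μ x * μ (1 + x) := by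
      rw [hd]; field_simp; ring
    rw [← h2, e, zero_mul]
  have hkey : ∀ a c, β a (d * c) = 1 := by
    intro a c
    have e1 := hmove (1 + x) hx1 hμ1 a c
    rw [add_mul, one_mul, hl, hmove x hx0 hμ0] at e1
    have e2 : d * c = (μ (1 + x))⁻¹ * c + -(c + (μ x)⁻¹ * c) := by rw [hd]; ring
    rw [e2, hr, neg_right β hr, hr, e1, mul_inv_cancel]
  have := hkey a (d⁻¹ * c)
  rwa [mul_inv_cancel_left₀ hd0] at this

variable [Fintype K]

include hl hr in
theorem eq_one_weight_id (hq : 3 < Fintype.card K) (hinv : ∀ k, k ≠ 0 → ∀ a c, β (k * a) (k * c) = β a c)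
    (a c : K) : β a c = 1 := by
  classical
  obtain ⟨x, -, hx⟩ := Finset.exists_mem_notMem_of_card_lt_card (s := ({0, 1, -1} : Finset K))
    (t := Finset.univ) (lt_of_le_of_lt Finset.card_le_three (by rw [Finset.card_univ]; exact hq))
  simp only [Finset.mem_insert, Finset.mem_singleton, not_or] at hx
  have h1 : 1 + x ≠ 0 := fun e => hx.2.2 (by linear_combination e)
  refine eq_one_of_weight β hl hr id hinv hx.1 h1 hx.1 h1 ?_ a c
  have h2 : id x - id (1 + x) - id x * id (1 + x) = -(x - 1) ^ 2 := by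
    simp only [id]; linear_combination (-x) * three (K := K)
  rw [h2, neg_ne_zero]
  exact pow_ne_zero 2 (sub_ne_zero.2 hx.2.1)

/-- The automorphism `φ = θ³`, with `φ² = 3`. -/
def ph (θ : K ≃+* K) (x : K) : K := θ x ^ 3

variable {θ : K ≃+* K}

theorem ph_ne (hk : (a : K) → a ≠ 0 → θ a ≠ 0 := fun _ h => (map_ne_zero θ).2 h) {x : K} (hx : x ≠ 0) :
    ph θ x ≠ 0 := pow_ne_zero 3 (hk x hx)

theorem ph_mul (x y : K) : ph θ (x * y) = ph θ x * ph θ y := by rw [ph, map_mul, mul_pow]; rfl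

theorem ph_div (x y : K) : ph θ (x / y) = ph θ x / ph θ y := by rw [ph, map_div₀, div_pow]; rfl

theorem ph_neg (x : K) : ph θ (-x) = -ph θ x := by rw [ph, ph, map_neg]; ring

theorem ph_ph (hθ : IsRee θ) (x : K) : ph θ (ph θ x) = x ^ 3 := by
  rw [ph, ph, map_pow, hθ]

include hl hr in
theorem eq_one_weight_u (hθ : IsRee θ) {m : ℕ} (hK : Fintype.card K = 3 ^ (2 * m + 1)) (hm : 1 ≤ m)
    (hinv : ∀ k, k ≠ 0 → ∀ a c, β (ph θ k * k * a) (ph θ k * k * c) = β a c) (a c : K) : β a c = 1 := by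
  have hsq : ∀ z : K, z ≠ 0 → ∀ a c, β (z ^ 2 * a) (z ^ 2 * c) = β a c := fun z hz a c => by
    have hp := ph_ne (θ := θ) (hx := hz)
    have e : ph θ (ph θ z / z) * (ph θ z / z) = z ^ 2 := by
      rw [ph_div, ph_ph hθ]; field_simp
    rw [← e]
    exact hinv _ (div_ne_zero hp hz) a c
  refine eq_one_weight_id β hl hr ?_ ?_ a c
  · rw [hK]; calc 3 < 3 ^ 2 := by norm_num
      _ ≤ _ := Nat.pow_le_pow_right (by norm_num) (by omega)
  intro k hk a c
  obtain ⟨j, hj⟩ : ∃ j, Fintype.card K - 1 = 2 * (2 * j + 1) := by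
    rw [hK]
    have h1 : 3 ^ (2 * m + 1) % 4 = 3 := by rw [pow_succ, pow_mul, Nat.mul_mod, Nat.pow_mod]; norm_num
    exact ⟨(3 ^ (2 * m + 1) - 3) / 4, by omega⟩
  have hk1 : (k ^ (2 * j + 1)) ^ 2 = 1 := by
    rw [← pow_mul, mul_comm, ← hj, FiniteField.pow_card_sub_one_eq_one k hk]
  have hs : ∀ y : K, y ^ (2 * j + 1) = 1 → (y ^ (j + 1)) ^ 2 = y := fun y hy => by
    rw [← pow_mul, show (j + 1) * 2 = 2 * j + 1 + 1 by ring, pow_succ, hy, one_mul]
  rcases sq_eq_one_iff.1 hk1 with h | h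
  · rw [← hs k h]; exact hsq _ (pow_ne_zero _ hk) a c
  · have h' : (-k) ^ (2 * j + 1) = 1 := by rw [Odd.neg_pow ⟨j, rfl⟩, h, neg_neg]
    have e := hsq _ (pow_ne_zero (j + 1) (neg_ne_zero.2 hk)) (-a) (-c)
    rw [hs _ h', neg_mul_neg, neg_mul_neg, neg_left β hl, neg_right β hr, inv_inv] at e
    exact e

include hl hr in
theorem eq_one_weight_vv (hθ : IsRee θ) (hq : 3 < Fintype.card K)
    (hinv : ∀ k, k ≠ 0 → ∀ a c, β (ph θ k * k ^ 2 * a) (ph θ k * k ^ 2 * c) = β a c) (a c : K) :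
    β a c = 1 := by
  refine eq_one_weight_id β hl hr hq (fun k hk a c => ?_) a c
  have hp := ph_ne (θ := θ) (hx := hk)
  have e : ph θ (k ^ 2 / ph θ k) * (k ^ 2 / ph θ k) ^ 2 = k := by
    rw [ph_div, ph_ph hθ, pow_two, ph_mul]; field_simp
  rw [← e]
  exact hinv _ (div_ne_zero (pow_ne_zero 2 hk) hp) a c

include hl hr in
theorem eq_one_weight_tv {m : ℕ} (hK : Fintype.card K = 3 ^ (2 * m + 1)) (hm : 1 ≤ m)
    (hθe : ∀ x, θ x = x ^ 3 ^ m)
    (hinv : ∀ k, k ≠ 0 → ∀ a c, β (k * a) (ph θ k * k ^ 2 * c) = β a c) (a c : K) : β a c = 1 := by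
  classical
  set s := 3 ^ (m + 1) with hs
  have hph : ∀ x, ph θ x = x ^ s := fun x => by rw [ph, hθe, ← pow_mul, ← pow_succ]
  have hs0 : s ≠ 0 := by positivity
  let p : K[X] := X ^ (s + 2) - (1 + X) ^ 2 * (1 + X ^ s) - X ^ (s + 2) * ((1 + X) ^ 2 * (1 + X ^ s))
  have h2 : ((1 + X : K[X]) ^ 2).natDegree ≤ 2 := by
    refine natDegree_pow_le.trans ?_
    have := natDegree_add_le (1 : K[X]) X
    simp only [natDegree_one, natDegree_X] at this
    omega
  have h3 : ((1 + X) ^ 2 * (1 + X ^ s) : K[X]).natDegree ≤ 2 + s :=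
    natDegree_mul_le.trans (add_le_add h2 ((natDegree_add_le _ _).trans (by simp)))
  have hdeg : p.natDegree ≤ 2 * s + 4 := by
    refine natDegree_sub_le_iff_left ?_ |>.2 ?_
    · exact natDegree_mul_le.trans (by rw [natDegree_X_pow]; omega)
    · exact (natDegree_sub_le _ _).trans (by rw [natDegree_X_pow]; omega)
  have hne : p ≠ 0 := fun e => by
    have : p.eval 0 = -1 := by simp [p, hs0]
    simp [e] at this
  obtain ⟨x, -, hx⟩ := Finset.exists_mem_notMem_of_card_lt_card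
    (s := {0, -1} ∪ p.roots.toFinset) (t := Finset.univ) (by
      have := Finset.card_union_le ({0, -1} : Finset K) p.roots.toFinset
      have := Finset.card_le_two (a := (0 : K)) (b := -1)
      have := (Multiset.toFinset_card_le _).trans ((Polynomial.card_roots' p).trans hdeg)
      rw [Finset.card_univ, hK]
      have h9 : s * 3 ≤ 3 ^ (2 * m + 1) := by
        rw [hs, ← pow_succ]; exact Nat.pow_le_pow_right (by norm_num) (by omega)
      have h9' : 9 ≤ s := by
        rw [hs, show (9 : ℕ) = 3 ^ 2 by norm_num]; exact Nat.pow_le_pow_right (by norm_num) (by omega)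
      omega)
  simp only [Finset.mem_union, Finset.mem_insert, Finset.mem_singleton, Multiset.mem_toFinset,
    not_or] at hx
  have h1 : 1 + x ≠ 0 := fun e => hx.1.2 (by linear_combination e)
  refine eq_one_of_weight β hl hr (fun k => ph θ k * k ^ 2) hinv hx.1.1 h1
    (mul_ne_zero (ph_ne (θ := θ) (hx := hx.1.1)) (pow_ne_zero 2 hx.1.1))
    (mul_ne_zero (ph_ne (θ := θ) (hx := h1)) (pow_ne_zero 2 h1)) (fun e => hx.2 ?_) a c
  rw [mem_roots hne, IsRoot.def]
  have hadd : ph θ (1 + x) = 1 + ph θ x := by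
    rw [ph, ph, map_add, map_one]; linear_combination (θ x + θ x ^ 2) * three (K := K)
  simp only [hadd] at e
  simp only [p, eval_sub, eval_mul, eval_pow, eval_add, eval_X, eval_one, pow_add]
  rw [← hph x]
  linear_combination e

end CfsgLib.ReeMultiplier
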