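import Cfsg.Agent.Lib.GLSylow.Homocyclic

/-!
The Sylow `r`-subgroups of `GL_n(q)` when `n < r * orderOf q`.
-/

set_option autoImplicit false

namespace CfsgLib.ReeMultiplier

open CfsgLib.Zsigmondy CfsgLib.GLSylow Finset

theorem factorization_card_GL_of_div {q r : ℕ} [hr : Fact r.Prime] {F : Type*} [Field F] [Fintype F] (hF : Fintype.card F = q) {n : ℕ}
    (hrn : n / orderOf (q : ZMod r) < r) (hrq : ¬ r ∣ q) :
    (Nat.card (GL (Fin n) F)).factorization r = n / orderOf (q : ZMod r) *
      (cyclotomicValue q (orderOf (q : ZMod r))).factorization r := by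
  have hq : 1 < q := hF ▸ Fintype.one_lt_card
  set d := orderOf (q : ZMod r) with hd
  set v := (cyclotomicValue q d).factorization r with hv
  have hne : ∀ i : Fin n, q ^ n - q ^ (i : ℕ) ≠ 0 := fun i => by
    have := Nat.pow_lt_pow_right hq i.2
    omega
  have hval : ∀ i : Fin n, (q ^ n - q ^ (i : ℕ)).factorization r =
      if d ∣ n - i then v else 0 := fun i => by
    have e : q ^ n - q ^ (i : ℕ) = q ^ (i : ℕ) * (q ^ (n - i) - 1) := by
      rw [Nat.mul_sub, ← pow_add, mul_one, Nat.add_sub_cancel' i.2.le]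
    have hne' : q ^ (n - i) - 1 ≠ 0 := fun h => hne i (by rw [e, h, mul_zero])
    rw [e, Nat.factorization_mul (pow_ne_zero _ (by omega)) hne', Finsupp.add_apply,
      Nat.factorization_eq_zero_of_not_dvd fun h => hrq (hr.out.dvd_of_dvd_pow h), zero_add]
    split_ifs with h
    · obtain ⟨j, hj⟩ := h
      have hj0 : 0 < j := Nat.pos_of_ne_zero fun h0 => by subst h0; omega
      have hjle : j ≤ d * j := Nat.le_mul_of_pos_left j (orderOf_pos_of_not_dvd hrq)
      rw [hj, factorization_pow_mul hq hrq (Nat.not_dvd_of_pos_of_lt hj0 (lt_of_le_of_lt ((Nat.le_div_iff_mul_le (orderOf_pos_of_not_dvd hrq)).2 (by rw [mul_comm, ← hj]; omega)) hrn)), factorization_pow_orderOf hq hrq]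
    · exact Nat.factorization_eq_zero_of_not_dvd fun h' =>
        h ((dvd_pow_sub_one_iff (by omega) _).1 h')
  rw [CfsgLib.Linear.card_GL_fin, hF, Nat.factorization_prod fun i _ => hne i,
    Finsupp.finsetSum_apply, Finset.sum_congr rfl fun i _ => hval i,
    Fin.sum_univ_eq_sum_range (fun i => if d ∣ n - i then v else 0) n,
    ← Finset.sum_filter, Finset.sum_const, smul_eq_mul]
  congr 1
  rw [← Nat.Ioc_filter_dvd_card_eq_div n d]
  refine Finset.card_bij' (fun i _ => n - i) (fun i _ => n - i) ?_ ?_ ?_ ?_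
  all_goals intro i hi
  all_goals simp only [mem_filter, mem_range, mem_Ioc] at hi ⊢
  · exact ⟨⟨by omega, by omega⟩, hi.2⟩
  · refine ⟨by omega, ?_⟩
    rw [show n - (n - i) = i by omega]
    exact hi.2
  · omega
  · omega

theorem sylow_GL_of_div {q r : ℕ} [hr : Fact r.Prime] {F : Type*} [Field F] [Fintype F] (hF : Fintype.card F = q) {n : ℕ}
    (hrn : n / orderOf (q : ZMod r) < r) (hrq : ¬ r ∣ q) (P : Sylow r (GL (Fin n) F)) :
    Nonempty (↥(P : Subgroup (GL (Fin n) F)) ≃* (Fin (n / orderOf (q : ZMod r)) →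
      Multiplicative (ZMod (r ^ padicValNat r (cyclotomicValue q (orderOf (q : ZMod r))))))) := by
  have hd := orderOf_pos_of_not_dvd hrq
  have hq : 1 < q := hF ▸ Fintype.one_lt_card
  obtain ⟨f, hf⟩ := exists_hom_GL hF (n := n) (k := n / orderOf (q : ZMod r)) hd
    (Nat.div_mul_le_self _ _)
    (c := r ^ padicValNat r (cyclotomicValue q (orderOf (q : ZMod r))))
    (pow_padicValNat_dvd.trans (cyclotomicValue_dvd_pow_sub_one (by omega) _))
  refine sylow_equiv f hf ?_ P
  rw [factorization_card_GL_of_div hF hrn hrq, Nat.factorization_def _ hr.out, card_pow_zmod]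

end CfsgLib.ReeMultiplier
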