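import Cfsg.Agent.Lib.ReeMultiplier.Three
import Cfsg.Agent.Lib.ReeG2.Invol
import Cfsg.Agent.Lib.ReeG2.Model
import Cfsg.Agent.Lib.ReeMultiplier.GLPart

/-!
The Schur multiplier of a small Ree group is trivial.
-/

set_option autoImplicit false
set_option linter.style.haveILetI false

namespace CfsgLib.ReeMultiplier

open CfsgLib.ReeG2 Subgroup Cfsg.Lie
open scoped commutatorElement MatrixGroups IsMulCommutative

variable {K : Type*} [Field K] [CharP K 3] [Fintype K] {θ : K ≃+* K} (hθ : IsRee θ)
include hθ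

theorem two_part (hq8 : Fintype.card K % 8 = 3) {Γ : Type*} [Group Γ] [Finite Γ] (σ : Γ →* ↥(fixG θ))
    (hs : Function.Surjective σ) (hc : σ.ker ≤ center Γ) (hd : σ.ker ≤ _root_.commutator Γ) :
    ¬ 2 ∣ Nat.card σ.ker := by
  haveI : Fact (Nat.Prime 2) := ⟨Nat.prime_two⟩
  haveI : Finite ↥(fixG θ) := Finite.of_surjective σ hs
  obtain ⟨A, hA⟩ := hs (a0 hθ)
  choose L hL using fun g : SL(2, K) => hs (lamG hθ g)
  have hAc : ∀ g, σ A * σ (L g) = σ (L g) * σ A := fun g => by rw [hA, hL, lamG_comm hθ]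
  let χ : SL(2, K) →* center Γ :=
    { toFun := fun g => ⟨⁅A, L g⁆, SchurTrivial.mem_center_comm hc (hAc g)⟩
      map_one' := Subtype.ext (by
        show ⁅A, L 1⁆ = 1
        rw [SchurTrivial.comm_congr hc (A' := A) (B' := (1 : Γ)) rfl (by rw [hL, map_one, map_one]),
          commutatorElement_one_right])
      map_mul' := fun g g' => Subtype.ext (by
        show ⁅A, L (g * g')⁆ = ⁅A, L g⁆ * ⁅A, L g'⁆
        rw [← SchurTrivial.comm_mul_right hc (hAc g')]
        exact SchurTrivial.comm_congr hc rfl (by rw [map_mul, hL, hL, hL, map_mul])) }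
  have h2 : ∀ g, (χ g : Γ) ^ 2 = 1 := fun g => by
    show ⁅A, L g⁆ ^ 2 = 1
    have e : ⁅A * A, L g⁆ = (A * ⁅A, L g⁆ * A⁻¹) * ⁅A, L g⁆ := by
      simp only [commutatorElement_def]; group
    rw [mem_center_iff.1 (show ⁅A, L g⁆ ∈ center Γ from (χ g).2) A, mul_inv_cancel_right] at e
    have h1 : ⁅A * A, L g⁆ = 1 :=
      commutatorElement_eq_one_iff_mul_comm.2 (mem_center_iff.1
        (hc (show σ (A * A) = 1 by rw [map_mul, hA, a0_sq])) (L g)).symm
    rw [pow_two]
    exact e.symm.trans h1
  have hχ : ∀ g, χ g = 1 := by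
    have hE : ∀ g : SL(2, K), g ^ 3 = 1 → χ g = 1 := fun g hg => by
      have h3 : χ g ^ 3 = 1 := by rw [← map_pow, hg, map_one]
      have h2' : χ g ^ 2 = 1 := Subtype.ext (h2 g)
      rwa [pow_succ, h2', one_mul] at h3
    have hker : χ.ker = ⊤ := by
      refine sl2_closure _ (fun u => hE _ ?_) fun u => hE _ ?_
      · apply Subtype.ext
        rw [pow_succ, pow_two, Matrix.SpecialLinearGroup.coe_mul, Matrix.SpecialLinearGroup.coe_mul]
        show !![(1 : K), u; 0, 1] * !![1, u; 0, 1] * !![1, u; 0, 1] = _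
        ext i j
        fin_cases i <;> fin_cases j <;> simp [Matrix.mul_apply, Fin.sum_univ_two]
        linear_combination u * three (K := K)
      · apply Subtype.ext
        rw [pow_succ, pow_two, Matrix.SpecialLinearGroup.coe_mul, Matrix.SpecialLinearGroup.coe_mul]
        show !![(1 : K), 0; u, 1] * !![1, 0; u, 1] * !![1, 0; u, 1] = _
        ext i j
        fin_cases i <;> fin_cases j <;> simp [Matrix.mul_apply, Fin.sum_univ_two]
        linear_combination u * three (K := K)
    exact fun g => MonoidHom.mem_ker.1 (hker ▸ mem_top g)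
  have hA2 : ∀ B, σ A * σ B = σ B * σ A → ⁅A, B⁆ = 1 := by
    intro B hB
    obtain ⟨g, hg⟩ := comm_a0_cases hθ (x := σ B) (by rw [← hA]; exact hB.symm)
    have hg1 : ⁅A, L g⁆ = 1 := congrArg Subtype.val (hχ g)
    rcases hg with e | e
    · rw [SchurTrivial.comm_congr hc (A' := A) (B' := L g) rfl (by rw [e, hL]), hg1]
    · rw [SchurTrivial.comm_congr hc (A' := A) (B' := A * L g) rfl (by rw [e, map_mul, hA, hL]),
        SchurTrivial.comm_mul_right hc (hAc g), commutatorElement_self, hg1, one_mul]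
  let Q : Sylow 2 ↥(fixG θ) := default
  obtain ⟨P, hP⟩ := SchurBound.exists_sylow_map_eq σ hs Q
  obtain ⟨-, hsq⟩ := sylow_two_elementary hθ hq8 Q
  refine SchurSylow.not_dvd_card_ker_of_comm σ hc hd P fun x y hx hy => ?_
  have hx' : σ x ∈ (Q : Subgroup ↥(fixG θ)) := hP ▸ mem_map_of_mem σ hx
  have hy' : σ y ∈ (Q : Subgroup ↥(fixG θ)) := hP ▸ mem_map_of_mem σ hy
  by_cases h1 : σ x = 1
  · exact (mem_center_iff.1 (hc h1) y).symm
  obtain ⟨g, hg⟩ := invol_conj hθ h1 (hsq _ hx')
  obtain ⟨G, rfl⟩ := hs g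
  have hxy : σ x * σ y = σ y * σ x := by
    have hxy2 := hsq _ (mul_mem hx' hy')
    have e1 := eq_inv_of_mul_eq_one_left hxy2
    rw [_root_.mul_inv_rev, ← eq_inv_of_mul_eq_one_left (hsq _ hx'),
      ← eq_inv_of_mul_eq_one_left (hsq _ hy')] at e1
    exact e1
  have hB : σ A * σ (G⁻¹ * y * G) = σ (G⁻¹ * y * G) * σ A := by
    have e : σ A = (σ G)⁻¹ * σ x * σ G := by rw [hA, ← hg]; group
    rw [e, map_mul, map_mul, map_inv]
    calc (σ G)⁻¹ * σ x * σ G * ((σ G)⁻¹ * σ y * σ G) = (σ G)⁻¹ * (σ x * σ y) * σ G := by group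
      _ = (σ G)⁻¹ * (σ y * σ x) * σ G := by rw [hxy]
      _ = _ := by group
  rw [← commutatorElement_eq_one_iff_mul_comm,
    SchurTrivial.comm_congr hc (A' := G * A * G⁻¹) (B' := G * (G⁻¹ * y * G) * G⁻¹)
      (by rw [map_mul, map_mul, map_inv, hA, hg]) (congrArg σ (by group)),
    ← conjugate_commutatorElement, hA2 _ hB, mul_one, mul_inv_cancel]

theorem odd_part {m : ℕ} (hK : Fintype.card K = 3 ^ (2 * m + 1)) {r : ℕ} [Fact r.Prime] (hr2 : r ≠ 2)
    (hr3 : r ≠ 3) (hr : r ∣ Nat.card ↥(fixG θ)) (Q : Sylow r ↥(fixG θ)) :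
    IsCyclic ↥(Q : Subgroup ↥(fixG θ)) := by
  classical
  have hrp := (Fact.out : r.Prime)
  have hr5 : 3 < r := by
    have := hrp.two_le
    omega
  set q := Fintype.card K with hqdef
  have hq1 : 1 < q := Fintype.one_lt_card
  have hrq : ¬ r ∣ q := fun h => by
    rw [hK] at h
    exact hr3 ((Nat.prime_dvd_prime_iff_eq hrp Nat.prime_three).1 (hrp.dvd_of_dvd_pow h))
  have hfac : (Nat.card ↥(fixG θ)).factorization r =
      (q - 1).factorization r + (q ^ 3 + 1).factorization r := by
    rw [card_fixG hθ, Nat.factorization_mul (Nat.mul_ne_zero (by positivity) (by omega)) (by positivity),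
      Nat.factorization_mul (by positivity) (by omega), Finsupp.add_apply, Finsupp.add_apply,
      Nat.factorization_eq_zero_of_not_dvd (fun h => hrq (hrp.dvd_of_dvd_pow h)), zero_add]
  have hq3 : ((q : ZMod r) = 1 → ¬ r ∣ q ^ 3 + 1) := fun h hd => by
    rw [← ZMod.natCast_eq_zero_iff] at hd
    push_cast at hd
    rw [h, one_pow, one_add_one_eq_two] at hd
    have h2 : ((2 : ℕ) : ZMod r) = 0 := by exact_mod_cast hd
    rw [ZMod.natCast_eq_zero_iff] at h2
    have := Nat.le_of_dvd (by norm_num) h2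
    omega
  by_cases h1 : r ∣ q - 1
  · -- the torus
    have hq' : (q : ZMod r) = 1 := by
      rw [← ZMod.natCast_eq_zero_iff, Nat.cast_sub hq1.le, Nat.cast_one, sub_eq_zero] at h1
      exact h1
    let f : Kˣ →* ↥(fixG θ) :=
      { toFun := fun a => hg hθ a
        map_one' := Subtype.ext hh_one
        map_mul' := fun a b => Subtype.ext (hh_mul a b).symm }
    have hf : Function.Injective f := fun a b e => hh_injective (congrArg Subtype.val e)
    let P : Sylow r Kˣ := default
    have hP : Nat.card ((P : Subgroup Kˣ).map f) = r ^ (Nat.card ↥(fixG θ)).factorization r := by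
      rw [Subgroup.card_map_of_injective hf, P.card_eq_multiplicity, hfac,
        Nat.factorization_eq_zero_of_not_dvd (hq3 hq'), add_zero, Nat.card_units, Nat.card_eq_fintype_card]
    haveI : IsCyclic ↥((P : Subgroup Kˣ).map f) :=
      ((P : Subgroup Kˣ).equivMapOfInjective f hf).isCyclic.1 inferInstance
    exact (Q.equiv (Sylow.ofCard _ hP)).isCyclic.2 this
  have hrd : r ∣ q ^ 3 + 1 := by
    rw [card_fixG hθ] at hr
    rcases hrp.dvd_mul.1 hr with h | h
    · rcases hrp.dvd_mul.1 h with h | h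
      · exact absurd (hrp.dvd_of_dvd_pow h) hrq
      · exact absurd h h1
    · exact h
  rw [Nat.factorization_eq_zero_of_not_dvd h1, zero_add] at hfac
  have hq3eq : q ^ 3 + 1 = (q + 1) * (q * (q - 1) + 1) := by
    obtain ⟨k, hk⟩ : ∃ k, q = k + 1 := ⟨q - 1, by omega⟩
    rw [hk, Nat.add_sub_cancel]; ring
  by_cases h2 : r ∣ q + 1
  · -- the centraliser of an involution
    have hnot : ¬ r ∣ q * (q - 1) + 1 := fun h => by
      rw [← ZMod.natCast_eq_zero_iff] at h h2
      push_cast [Nat.cast_sub hq1.le] at h h2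
      have h3 : ((3 : ℕ) : ZMod r) = 0 := by push_cast; linear_combination h - ((q : ZMod r) - 2) * h2
      rw [ZMod.natCast_eq_zero_iff] at h3
      exact hr3 ((Nat.prime_dvd_prime_iff_eq hrp Nat.prime_three).1 h3)
    have hd : orderOf (q : ZMod r) = 2 := by
      refine orderOf_eq_prime ?_ fun h => hq3 h hrd
      rw [← ZMod.natCast_eq_zero_iff] at h2
      push_cast at h2
      linear_combination ((q : ZMod r) - 1) * h2
    let P : Sylow r SL(2, K) := default
    obtain ⟨e⟩ := GLSylow.sylow_SL (n := 2) hqdef.symm (by omega) hrq P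
    rw [hd] at e
    have hcard : ((Finset.Icc 2 2).filter (fun i => 2 ∣ i)).card = 1 := by decide
    haveI : IsCyclic ↥(P : Subgroup SL(2, K)) := by
      haveI : Unique (Fin ((Finset.Icc 2 2).filter (fun i => 2 ∣ i)).card) :=
        (finCongr hcard).unique
      exact (e.trans (MulEquiv.piUnique _)).isCyclic.2 inferInstance
    have hinj : Function.Injective ((lamG hθ).comp (P : Subgroup SL(2, K)).subtype) := by
      rw [injective_iff_map_eq_one]
      intro x hx
      rcases (lamG_eq_one hθ).1 hx with h | h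
      · exact Subtype.ext h
      · exfalso
        obtain ⟨k, hk⟩ := P.isPGroup' x
        have hk' : (x : SL(2, K)) ^ r ^ k = 1 := congrArg Subtype.val hk
        have hne := neg_one_ne_one (K := K)
        replace h : (x : SL(2, K)) = -1 := h
        rw [h, ((hrp.odd_of_ne_two hr2).pow).neg_one_pow] at hk'
        have e1 := congrArg (fun g : SL(2, K) => g.1 0 0) hk'
        simp at e1
        exact hne e1
    have hP : Nat.card ((lamG hθ).comp (P : Subgroup SL(2, K)).subtype).range =
        r ^ (Nat.card ↥(fixG θ)).factorization r := by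
      rw [← Nat.card_congr (MonoidHom.ofInjective hinj).toEquiv, P.card_eq_multiplicity, hfac, hq3eq,
        Nat.factorization_mul (by omega) (by omega), Finsupp.add_apply,
        Nat.factorization_eq_zero_of_not_dvd hnot, add_zero]
      have hSL : Nat.card SL(2, K) * (q - 1) = (q + 1) * (q - 1) * q * (q - 1) := by
        rw [mul_comm]
        conv_lhs => rw [hqdef, ← CfsgLib.Linear.card_GL_eq_mul_card_SL]
        rw [CfsgLib.Linear.card_GL_fin, Fin.prod_univ_two, ← hqdef]
        simp only [Fin.val_zero, Fin.val_one, pow_zero, pow_one]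
        rw [show q ^ 2 - 1 = (q + 1) * (q - 1) by rw [← Nat.sq_sub_sq, one_pow],
          show q ^ 2 - q = q * (q - 1) by rw [pow_two, Nat.mul_sub, mul_one]]
        ring
      rw [Nat.eq_of_mul_eq_mul_right (by omega) hSL,
        Nat.factorization_mul (Nat.mul_ne_zero (by omega) (by omega)) (by omega), Finsupp.add_apply,
        Nat.factorization_eq_zero_of_not_dvd hrq, add_zero,
        Nat.factorization_mul (by omega) (by omega), Finsupp.add_apply,
        Nat.factorization_eq_zero_of_not_dvd h1, add_zero]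
    haveI : IsCyclic ↥((lamG hθ).comp (P : Subgroup SL(2, K)).subtype).range :=
      isCyclic_of_surjective _ (MonoidHom.rangeRestrict_surjective _)
    exact (Q.equiv (Sylow.ofCard _ hP)).isCyclic.2 this
  · -- a Singer cycle: the seven dimensional representation
    let f : ↥(fixG θ) →* GL (Fin 7) K :=
      ((lHom hθ).comp (Subgroup.inclusion (fun g hg => (mem_fixG.1 hg).1))).toHomUnits
    have hf : Function.Injective f := by
      rw [injective_iff_map_eq_one]
      intro g hg
      refine Subtype.ext (eq_one_of_lblock hθ (mem_fixG.1 g.2).1 fun i j => ?_)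
      have e := congrArg (fun u : GL (Fin 7) K => (u : Matrix (Fin 7) (Fin 7) K) i j) hg
      change ((g : GL chevG2.Idx K) : Matrix chevG2.Idx chevG2.Idx K) (lI i) (lI j) =
        (1 : Matrix (Fin 7) (Fin 7) K) i j at e
      rw [e]
      by_cases hij : i = j
      · subst hij; simp
      · rw [Matrix.one_apply_ne hij, Matrix.one_apply_ne fun e' => hij (lI_inj e')]
    have h6 : (q : ZMod r) ^ 3 = -1 := by
      rw [← ZMod.natCast_eq_zero_iff] at hrd
      push_cast at hrd
      linear_combination hrd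
    have hne1 : (q : ZMod r) ^ 2 ≠ 1 := fun h => by
      rcases sq_eq_one_iff.1 h with e | e
      · exact hq3 e hrd
      · apply h2
        rw [← ZMod.natCast_eq_zero_iff]
        push_cast
        rw [e, neg_add_cancel]
    have hd : orderOf (q : ZMod r) = 6 := by
      rw [orderOf_eq_iff (by norm_num)]
      refine ⟨by linear_combination ((q : ZMod r) ^ 3 - 1) * h6, fun i hi hi0 h => ?_⟩
      have hq0 : (q : ZMod r) ≠ 0 := by rwa [Ne, ZMod.natCast_eq_zero_iff]
      have hneg : (-1 : ZMod r) ≠ 1 := fun e => by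
        haveI : NeZero r := ⟨hrp.ne_zero⟩
        exact absurd ((ZMod.neg_eq_self_iff (1 : ZMod r)).1 e) (by
          rintro (h | h)
          · exact one_ne_zero h
          · rw [ZMod.val_one] at h; omega)
      interval_cases i
      · exact hne1 (by rw [pow_one] at h; rw [h, one_pow])
      · exact hne1 h
      · exact hneg (h6.symm.trans h)
      · apply hne1
        have e1 : (q : ZMod r) ^ 6 = 1 := by linear_combination ((q : ZMod r) ^ 3 - 1) * h6
        calc (q : ZMod r) ^ 2 = (q : ZMod r) ^ 2 * (q : ZMod r) ^ 4 := by rw [h, mul_one]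
          _ = 1 := by rw [← pow_add, e1]
      · apply hne1
        have e1 : (q : ZMod r) ^ 6 = 1 := by linear_combination ((q : ZMod r) ^ 3 - 1) * h6
        have e2 : (q : ZMod r) = 1 := by
          calc (q : ZMod r) = (q : ZMod r) ^ 5 * q := by rw [h, one_mul]
            _ = 1 := by rw [← pow_succ, e1]
        rw [e2, one_pow]
    obtain ⟨S, hS⟩ := (Q.isPGroup'.map f).exists_le_sylow
    obtain ⟨e⟩ := sylow_GL_of_div (n := 7) hqdef.symm (by rw [hd]; omega) hrq S
    rw [hd] at e
    haveI : IsCyclic ↥(S : Subgroup (GL (Fin 7) K)) := by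
      haveI : Unique (Fin (7 / 6)) := (finCongr (by norm_num : 7 / 6 = 1)).unique
      exact (e.trans (MulEquiv.piUnique _)).isCyclic.2 inferInstance
    exact isCyclic_of_injective ((Subgroup.inclusion hS).comp (f.subgroupMap _))
      ((Subgroup.inclusion_injective hS).comp
        (MulEquiv.injective ((Q : Subgroup ↥(fixG θ)).equivMapOfInjective f hf)))

theorem multiplier {m : ℕ} (hm : 1 ≤ m) (hK : Fintype.card K = 3 ^ (2 * m + 1))
    (hθe : ∀ x, θ x = x ^ 3 ^ m) :
    Cfsg.HasCyclicSchurMultiplier ↥(twistedG2 K (3 ^ m)) 1 := by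
  rw [model hθ hθe]
  haveI : Finite ↥(fixG θ) := inferInstance
  refine SchurTrivial.hasCyclic_one fun Γ _ _ σ hs hc hd r hr hrd => ?_
  haveI := Fact.mk hr
  by_cases h3 : r = 3
  · subst h3; exact three_part hθ hm hK hθe σ hs hc hd
  by_cases h2 : r = 2
  · subst h2
    refine two_part hθ ?_ σ hs hc hd
    rw [hK, pow_succ, pow_mul, Nat.mul_mod, Nat.pow_mod]; norm_num
  let P : Sylow r Γ := default
  haveI : IsCyclic ((P : Subgroup Γ).map σ) := odd_part hθ hK h2 h3 hrd (P.mapSurjective hs)
  exact SchurSylow.not_dvd_card_ker_of_cyclic σ hc hd P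

end CfsgLib.ReeMultiplier
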