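import Cfsg.Agent.Lib.ReeMultiplier.Forms
import Cfsg.Agent.Lib.ReeG2.Sylow
import Cfsg.Agent.Lib.Schur.Trivial

/-!
The 3-part of a stem extension of a small Ree group is trivial.
-/

set_option autoImplicit false
set_option linter.style.haveILetI false

namespace CfsgLib.ReeMultiplier

open CfsgLib.ReeG2 Subgroup
open scoped commutatorElement IsMulCommutative

variable {K : Type*} [Field K] [CharP K 3] [Fintype K] {θ : K ≃+* K}

/-- Commutators of commuting images are biadditive, and vanish when all invariant maps do. -/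
theorem pair_eq_one {Γ G : Type*} [Group Γ] [Group G] {σ : Γ →* G} (hc : σ.ker ≤ center Γ)
    (X Y : K → Γ) (hcomm : ∀ a c, σ (X a) * σ (Y c) = σ (Y c) * σ (X a))
    (hX : ∀ a a', ∃ w, (∀ c, ⁅w, Y c⁆ = 1) ∧ σ (X (a + a')) = σ (X a * X a' * w))
    (hY : ∀ c c', σ (Y (c + c')) = σ (Y c * Y c')) (μ ν : K → K)
    (hconj : ∀ k, k ≠ 0 → ∃ T, (∀ a, σ T * σ (X a) = σ (X (μ k * a)) * σ T) ∧
      ∀ c, σ T * σ (Y c) = σ (Y (ν k * c)) * σ T)
    (hvan : ∀ β : K → K → center Γ, (∀ a a' c, β (a + a') c = β a c * β a' c) →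
      (∀ a c c', β a (c + c') = β a c * β a c') →
      (∀ k, k ≠ 0 → ∀ a c, β (μ k * a) (ν k * c) = β a c) → ∀ a c, β a c = 1) (a c : K) :
    ⁅X a, Y c⁆ = 1 := by
  have hmem : ∀ a c, ⁅X a, Y c⁆ ∈ center Γ := fun a c => SchurTrivial.mem_center_comm hc (hcomm a c)
  have := hvan (fun a c => ⟨_, hmem a c⟩) ?_ ?_ ?_ a c
  · exact congrArg Subtype.val this
  · intro a a' c
    apply Subtype.ext
    show ⁅X (a + a'), Y c⁆ = ⁅X a, Y c⁆ * ⁅X a', Y c⁆
    obtain ⟨w, hw, he⟩ := hX a a'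
    rw [SchurTrivial.comm_congr hc he rfl]
    have e : ⁅X a * X a' * w, Y c⁆ =
        X a * X a' * ⁅w, Y c⁆ * (X a')⁻¹ * (X a)⁻¹ * (X a * ⁅X a', Y c⁆ * (X a)⁻¹) * ⁅X a, Y c⁆ := by
      simp only [commutatorElement_def]; group
    rw [e, hw, mul_one, mul_inv_cancel_right, mul_inv_cancel, one_mul, mem_center_iff.1 (hmem a' c) (X a),
      mul_inv_cancel_right, mem_center_iff.1 (hmem a c) ⁅X a', Y c⁆]
  · intro a c c'
    apply Subtype.ext
    show ⁅X a, Y (c + c')⁆ = ⁅X a, Y c⁆ * ⁅X a, Y c'⁆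
    rw [← SchurTrivial.comm_mul_right hc (hcomm a c')]
    exact SchurTrivial.comm_congr hc rfl (hY c c')
  · intro k hk a c
    obtain ⟨T, h1, h2⟩ := hconj k hk
    exact Subtype.ext (SchurTrivial.comm_conj hc (T := T) (hcomm a c) (h1 a) (h2 c))

variable (hθ : IsRee θ)
include hθ

theorem rg_mul (t u v t' u' v' : K) : rg hθ t u v * rg hθ t' u' v' =
    rg hθ (t + t') (u + u' - θ t' ^ 3 * t) (v + v' - θ t' ^ 3 * t ^ 2 - t' * (u - θ t' ^ 3 * t)) :=
  Subtype.ext (ru_mul hθ t u v t' u' v')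

theorem rg_inv (t u v : K) : (rg hθ t u v)⁻¹ =
    rg hθ (-t) (-u - θ t ^ 3 * t) (-v - θ t ^ 3 * t ^ 2 - t * (u + θ t ^ 3 * t)) :=
  Subtype.ext (ru_inv hθ t u v)

theorem hg_conj (k : Kˣ) (t u v : K) :
    hg hθ (Units.map (θ : K →* K) k) * rg hθ t u v * (hg hθ (Units.map (θ : K →* K) k))⁻¹ =
      rg hθ ((k : K) * t) (ph θ k * k * u) (ph θ k * (k : K) ^ 2 * v) := by
  apply Subtype.ext
  show hh θ _ * ru θ t u v * (hh θ _)⁻¹ = ru θ _ _ _
  rw [hh_conj_ru hθ]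
  have e : (bb θ (Units.map (θ : K →* K) k) : K) = k := by
    rw [coe_bb]; exact hθ k
  have e' : ((Units.map (θ : K →* K) k : Kˣ) : K) ^ 3 = ph θ k := rfl
  rw [e, e']

theorem three_part {m : ℕ} (hm : 1 ≤ m) (hK : Fintype.card K = 3 ^ (2 * m + 1))
    (hθe : ∀ x, θ x = x ^ 3 ^ m) {Γ : Type*} [Group Γ] [Finite Γ] (σ : Γ →* ↥(fixG θ))
    (hs : Function.Surjective σ) (hc : σ.ker ≤ center Γ) (hd : σ.ker ≤ _root_.commutator Γ) :
    ¬ 3 ∣ Nat.card σ.ker := by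
  classical
  haveI : Fact (Nat.Prime 3) := ⟨Nat.prime_three⟩
  haveI : Finite ↥(fixG θ) := Finite.of_surjective σ hs
  have hq : 3 < Fintype.card K := by
    rw [hK]; calc 3 < 3 ^ 2 := by norm_num
      _ ≤ _ := Nat.pow_le_pow_right (by norm_num) (by omega)
  choose T hT using fun t : K => hs (rg hθ t 0 0)
  choose U hU using fun u : K => hs (rg hθ 0 u 0)
  choose V hV using fun v : K => hs (rg hθ 0 0 v)
  choose J hJ using fun k : Kˣ => hs (hg hθ (Units.map (θ : K →* K) k))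
  have hconj : ∀ (k : Kˣ) (X : Γ) t u v, σ X = rg hθ t u v → σ (J k) * σ X =
      rg hθ ((k : K) * t) (ph θ k * k * u) (ph θ k * (k : K) ^ 2 * v) * σ (J k) := fun k X t u v h => by
    rw [h, hJ, ← hg_conj, inv_mul_cancel_right]
  have jU : ∀ (k : Kˣ) u, σ (J k) * σ (U u) = σ (U (ph θ k * k * u)) * σ (J k) := fun k u => by
    rw [hconj k _ 0 u 0 (hU u), hU, mul_zero, mul_zero]
  have jV : ∀ (k : Kˣ) v, σ (J k) * σ (V v) = σ (V (ph θ k * (k : K) ^ 2 * v)) * σ (J k) := fun k v => by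
    rw [hconj k _ 0 0 v (hV v), hV, mul_zero, mul_zero]
  have jT : ∀ (k : Kˣ) t, σ (J k) * σ (T t) = σ (T ((k : K) * t)) * σ (J k) := fun k t => by
    rw [hconj k _ t 0 0 (hT t), hT, mul_zero, mul_zero]
  have addU : ∀ u u', σ (U (u + u')) = σ (U u * U u') := fun u u' => by
    rw [map_mul, hU, hU, hU, rg_mul]; congr 1 <;> simp
  have addV : ∀ v v', σ (V (v + v')) = σ (V v * V v') := fun v v' => by
    rw [map_mul, hV, hV, hV, rg_mul]; congr 1 <;> simp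
  have linU : ∀ a a', ∃ w : Γ, (∀ Y : Γ, ⁅w, Y⁆ = 1) ∧ σ (U (a + a')) = σ (U a * U a' * w) :=
    fun a a' => ⟨1, fun Y => commutatorElement_one_left _, by rw [mul_one, addU]⟩
  have linV : ∀ a a', ∃ w : Γ, (∀ Y : Γ, ⁅w, Y⁆ = 1) ∧ σ (V (a + a')) = σ (V a * V a' * w) :=
    fun a a' => ⟨1, fun Y => commutatorElement_one_left _, by rw [mul_one, addV]⟩
  have hUU : ∀ a c, ⁅U a, U c⁆ = 1 := by
    refine pair_eq_one hc U U (fun a c => by rw [hU, hU, rg_mul, rg_mul]; simp [add_comm])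
      (fun a a' => (linU a a').imp fun w h => ⟨fun c => h.1 _, h.2⟩) addU (fun k => ph θ k * k) (fun k => ph θ k * k)
      (fun k hk => ⟨J (Units.mk0 k hk), jU _, jU _⟩) fun β hl hr hinv => eq_one_weight_u β hl hr hθ hK hm hinv
  have hVV : ∀ a c, ⁅V a, V c⁆ = 1 := by
    refine pair_eq_one hc V V (fun a c => by rw [hV, hV, rg_mul, rg_mul]; simp [add_comm])
      (fun a a' => (linV a a').imp fun w h => ⟨fun c => h.1 _, h.2⟩) addV (fun k => ph θ k * k ^ 2) (fun k => ph θ k * k ^ 2)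
      (fun k hk => ⟨J (Units.mk0 k hk), jV _, jV _⟩) fun β hl hr hinv => eq_one_weight_vv β hl hr hθ hq hinv
  have hVU : ∀ a c, ⁅V a, U c⁆ = 1 := by
    refine pair_eq_one hc V U (fun a c => by rw [hV, hU, rg_mul, rg_mul]; simp [add_comm])
      (fun a a' => (linV a a').imp fun w h => ⟨fun c => h.1 _, h.2⟩) addU (fun k => ph θ k * k ^ 2) (fun k => ph θ k * k)
      (fun k hk => ⟨J (Units.mk0 k hk), jV _, jU _⟩) fun β hl hr hinv => eq_one_of_neg β hl fun a c => ?_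
    have e := hinv (-1) (by simp) a c
    simpa [ph, pow_succ] using e
  -- the abelian subgroup above the second layer
  let A : Subgroup Γ :=
    { carrier := {z | ∃ u v, σ z = rg hθ 0 u v}
      one_mem' := ⟨0, 0, by rw [map_one]; exact Subtype.ext ru_zero.symm⟩
      mul_mem' := fun {z w} ⟨u, v, hz⟩ ⟨u', v', hw⟩ =>
        ⟨u + u', v + v', by rw [map_mul, hz, hw, rg_mul]; congr 1 <;> simp⟩
      inv_mem' := fun {z} ⟨u, v, hz⟩ => ⟨-u, -v, by rw [map_inv, hz, rg_inv]; congr 1 <;> simp⟩ }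
  have hdecA : ∀ z ∈ A, ∃ u v, ∃ ζ ∈ center Γ, z = U u * V v * ζ := by
    rintro z ⟨u, v, hz⟩
    refine ⟨u, v, (U u * V v)⁻¹ * z, hc ?_, by group⟩
    rw [MonoidHom.mem_ker, map_mul, map_inv, map_mul, hU, hV, hz, rg_mul]
    rw [inv_mul_eq_one]; congr 1 <;> simp
  have hcA : ∀ z ∈ A, ∀ w ∈ A, Commute z w := by
    have hgen : ∀ u v z, z ∈ A → Commute (U u * V v) z := by
      intro u v z hz
      obtain ⟨u', v', ζ, hζ, rfl⟩ := hdecA z hz
      refine Commute.mul_right (Commute.mul_right ?_ ?_) (mem_center_iff.1 hζ _)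
      · exact Commute.mul_left (commutatorElement_eq_one_iff_mul_comm.1 (hUU u u'))
          (commutatorElement_eq_one_iff_mul_comm.1 (hVU v u'))
      · exact Commute.mul_left (commutatorElement_eq_one_iff_mul_comm.1 (hVU v' u)).symm
          (commutatorElement_eq_one_iff_mul_comm.1 (hVV v v'))
    intro z hz w hw
    obtain ⟨u, v, ζ, hζ, rfl⟩ := hdecA z hz
    exact (hgen u v w hw).mul_left (mem_center_iff.1 hζ w).symm
  have hTV : ∀ a c, ⁅T a, V c⁆ = 1 := by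
    refine pair_eq_one hc T V (fun a c => by rw [hT, hV, rg_mul, rg_mul]; simp)
      (fun a a' => ⟨(T a * T a')⁻¹ * T (a + a'), fun c => ?_, by rw [mul_inv_cancel_left]⟩) addV (fun k => k) (fun k => ph θ k * k ^ 2)
      (fun k hk => ⟨J (Units.mk0 k hk), jT _, jV _⟩) fun β hl hr hinv => eq_one_weight_tv β hl hr hK hm hθe hinv
    rw [commutatorElement_eq_one_iff_mul_comm]
    refine (hcA _ ?_ _ ⟨0, c, hV c⟩).eq
    refine ⟨θ a' ^ 3 * a, θ a' ^ 3 * a ^ 2 - a' * (θ a' ^ 3 * a), ?_⟩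
    rw [map_mul, map_inv, map_mul, hT, hT, hT, rg_mul, inv_mul_eq_iff_eq_mul, rg_mul]
    congr 1 <;> simp
  have hdecR : ∀ (X : Γ) t u v, σ X = rg hθ t u v → (T t)⁻¹ * X ∈ A := fun X t u v hX => by
    refine ⟨u, v, ?_⟩
    rw [map_mul, map_inv, hT, hX, inv_mul_eq_iff_eq_mul, rg_mul]
    congr 1 <;> simp
  let R : Subgroup Γ :=
    { carrier := {X | ∃ t u v, σ X = rg hθ t u v}
      one_mem' := ⟨0, 0, 0, by rw [map_one]; exact Subtype.ext ru_zero.symm⟩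
      mul_mem' := fun {z w} ⟨t, u, v, hz⟩ ⟨t', u', v', hw⟩ =>
        ⟨_, _, _, by rw [map_mul, hz, hw, rg_mul]⟩
      inv_mem' := fun {z} ⟨t, u, v, hz⟩ => ⟨_, _, _, by rw [map_inv, hz, rg_inv]⟩ }
  have hAR : A ≤ R := fun z ⟨u, v, hz⟩ => ⟨0, u, v, hz⟩
  have hVc : ∀ z : Γ, ∀ v, σ z = rg hθ 0 0 v → ∀ X ∈ R, Commute X z := by
    rintro z v hz X ⟨t, u', v', hX⟩
    have hzA : z ∈ A := ⟨0, v, hz⟩
    have h1 : Commute (T t) z := by
      rw [Commute, SemiconjBy, ← commutatorElement_eq_one_iff_mul_comm,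
        SchurTrivial.comm_congr hc (A' := T t) (B' := V v) rfl (by rw [hz, hV])]
      exact hTV t v
    have := h1.mul_left (hcA _ (hdecR X t u' v' hX) z hzA)
    rwa [mul_inv_cancel_left] at this
  have hbr : ∀ X ∈ R, ∀ Y ∈ R, ⁅X, Y⁆ ∈ A := by
    rintro X ⟨t, u, v, hX⟩ Y ⟨t', u', v', hY⟩
    simp only [commutatorElement_def]
    show ∃ u₀ v₀, σ _ = rg hθ 0 u₀ v₀
    have key : ∀ (x y z : K), x = 0 → ∃ u₀ v₀, rg hθ x y z = rg hθ 0 u₀ v₀ :=
      fun x y z hx => ⟨y, z, by rw [hx]⟩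
    rw [map_mul, map_mul, map_mul, map_inv, map_inv, hX, hY, rg_inv, rg_inv, rg_mul, rg_mul, rg_mul]
    exact key _ _ _ (by ring)
  haveI : IsMulCommutative A := ⟨⟨fun z w => Subtype.ext (hcA z z.2 w w.2).eq⟩⟩
  have hconjA : ∀ (k : Kˣ) (z : Γ), z ∈ A → J k * z * (J k)⁻¹ ∈ A := by
    rintro k z ⟨u, v, hz⟩
    refine ⟨ph θ k * k * u, ph θ k * (k : K) ^ 2 * v, ?_⟩
    rw [map_mul, map_mul, map_inv, hconj k z 0 u v hz, mul_inv_cancel_right, mul_zero]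
  let cj : Kˣ → A → A := fun k z => ⟨J k * z * (J k)⁻¹, hconjA k z z.2⟩
  let N : A →* A :=
    { toFun := fun z => ∏ k : Kˣ, cj k z
      map_one' := Finset.prod_eq_one fun k _ => Subtype.ext (by simp [cj])
      map_mul' := fun z w => by
        rw [← Finset.prod_mul_distrib]
        exact Finset.prod_congr rfl fun k _ => Subtype.ext (by simp [cj]) }
  have hNj : ∀ j z, N (cj j z) = N z := fun j z => by
    refine Fintype.prod_equiv (Equiv.mulRight j) _ _ fun k => Subtype.ext ?_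
    show J k * (J j * z * (J j)⁻¹) * (J k)⁻¹ = J (k * j) * z * (J (k * j))⁻¹
    have hz : (J (k * j))⁻¹ * (J k * J j) ∈ center Γ := hc (by
      rw [MonoidHom.mem_ker, map_mul, map_inv, map_mul, hJ, hJ, hJ, inv_mul_eq_one, map_mul]
      exact Subtype.ext (hh_mul _ _).symm)
    calc J k * (J j * z * (J j)⁻¹) * (J k)⁻¹
        = J (k * j) * ((J (k * j))⁻¹ * (J k * J j) * z) * ((J (k * j))⁻¹ * (J k * J j))⁻¹ *
            (J (k * j))⁻¹ := by group
      _ = _ := by rw [← mem_center_iff.1 hz (z : Γ), mul_assoc (J (k * j)), mul_inv_cancel_right]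
  -- `N` does not see conjugation by the Sylow subgroup
  let D : K → K → A := fun t u => N ⟨⁅T t, U u⁆, hbr _ ⟨t, 0, 0, hT t⟩ _ (hAR ⟨u, 0, hU u⟩)⟩
  have hTU : ∀ t u, ∃ v, σ ⁅T t, U u⁆ = rg hθ 0 0 v := fun t u => by
    refine ⟨t * u, ?_⟩
    rw [commutatorElement_def, map_mul, map_mul, map_mul, map_inv, map_inv, hT, hU,
      mul_inv_eq_iff_eq_mul, mul_inv_eq_iff_eq_mul, rg_mul, rg_mul, rg_mul]
    congr 1 <;> simp
  have hD : ∀ t u, D t u = 1 := by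
    have hTU2 : ∀ t u, ∀ X ∈ R, Commute X ⁅T t, U u⁆ := fun t u X hX => by
      obtain ⟨v, hv⟩ := hTU t u
      exact hVc _ v hv X hX
    refine eq_one_of_neg D ?_ ?_
    · intro t t' u
      show N _ = N _ * N _
      rw [← map_mul]
      refine congrArg N (Subtype.ext ?_)
      show ⁅T (t + t'), U u⁆ = ⁅T t, U u⁆ * ⁅T t', U u⁆
      obtain ⟨a, b, hab⟩ := (⟨_, _, _, by rw [map_mul, hT, hT, rg_mul]⟩ : T t * T t' ∈ R)
      have hw : (T t * T t')⁻¹ * T (t + t') ∈ A := by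
        refine ⟨θ t' ^ 3 * t, θ t' ^ 3 * t ^ 2 - t' * (θ t' ^ 3 * t), ?_⟩
        rw [map_mul, map_inv, map_mul, hT, hT, hT, rg_mul, inv_mul_eq_iff_eq_mul, rg_mul]
        congr 1 <;> simp
      have h1 : ⁅(T t * T t')⁻¹ * T (t + t'), U u⁆ = 1 :=
        commutatorElement_eq_one_iff_mul_comm.2 (hcA _ hw _ ⟨u, 0, hU u⟩).eq
      conv_lhs => rw [show T (t + t') = T t * T t' * ((T t * T t')⁻¹ * T (t + t')) by group]
      generalize (T t * T t')⁻¹ * T (t + t') = w at h1 ⊢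
      have e : ⁅T t * T t' * w, U u⁆ =
          T t * T t' * ⁅w, U u⁆ * (T t * T t')⁻¹ * (T t * ⁅T t', U u⁆ * (T t)⁻¹) * ⁅T t, U u⁆ := by
        simp only [commutatorElement_def]; group
      rw [e, h1, mul_one, mul_inv_cancel, one_mul, (hTU2 t' u _ ⟨t, 0, 0, hT t⟩).eq,
        mul_inv_cancel_right, (hTU2 t u _ (hAR (hbr _ ⟨t', 0, 0, hT t'⟩ _ (hAR ⟨u, 0, hU u⟩)))).eq]
    · intro t u
      show N _ = N _
      refine (congrArg N (Subtype.ext ?_)).trans (hNj (-1) _)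
      show ⁅T (-t), U u⁆ = J (-1) * ⁅T t, U u⁆ * (J (-1))⁻¹
      rw [conjugate_commutatorElement]
      refine SchurTrivial.comm_congr hc ?_ ?_
      · rw [map_mul, map_mul, map_inv, jT, mul_inv_cancel_right]; simp
      · rw [map_mul, map_mul, map_inv, jU, mul_inv_cancel_right]; simp [ph, pow_succ]
  have hNconj : ∀ X (hX : X ∈ R) (z : A) (h : X * z * X⁻¹ ∈ A), N ⟨X * z * X⁻¹, h⟩ = N z := by
    rintro X ⟨t, u, v, hX⟩ ⟨z, hz⟩ h
    obtain ⟨u', v', ζ, hζ, hz'⟩ := hdecA z hz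
    have h1 : X * z * X⁻¹ = ⁅T t, U u'⁆ * z := by
      have ha := (hcA _ (hdecR X t u v hX) z hz).eq
      calc X * z * X⁻¹ = T t * (((T t)⁻¹ * X) * z) * ((T t)⁻¹ * X)⁻¹ * (T t)⁻¹ := by group
        _ = T t * z * (T t)⁻¹ := by rw [ha]; group
        _ = ⁅T t, z⁆ * z := by simp only [commutatorElement_def]; group
        _ = _ := by
          congr 1
          rw [hz']
          have hc2 : Commute (T t) (V v' * ζ) :=
            (hVc _ v' (hV v') _ ⟨t, 0, 0, hT t⟩).mul_right (mem_center_iff.1 hζ (T t))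
          have e : ⁅T t, U u' * (V v' * ζ)⁆ =
              ⁅T t, U u'⁆ * (U u' * ⁅T t, V v' * ζ⁆ * (U u')⁻¹) := by
            simp only [commutatorElement_def]; group
          rw [mul_assoc, e, commutatorElement_eq_one_iff_mul_comm.2 hc2.eq, mul_one, mul_inv_cancel, mul_one]
    have h2 : (⟨X * z * X⁻¹, h⟩ : A) =
        ⟨⁅T t, U u'⁆, hbr _ ⟨t, 0, 0, hT t⟩ _ (hAR ⟨u', 0, hU u'⟩)⟩ * ⟨z, hz⟩ := Subtype.ext h1
    rw [h2, map_mul]
    show D t u' * N _ = _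
    rw [hD, one_mul]
  -- the norm of a commutator is biadditive
  let f : R → R → A := fun X Y => N ⟨⁅(X : Γ), (Y : Γ)⁆, hbr _ X.2 _ Y.2⟩
  have fmul : ∀ X₁ X₂ Y, f (X₁ * X₂) Y = f X₁ Y * f X₂ Y := fun X₁ X₂ Y => by
    have hm : (X₁ : Γ) * ⁅(X₂ : Γ), (Y : Γ)⁆ * (X₁ : Γ)⁻¹ ∈ A := by
      have := mul_mem (hbr _ (mul_mem X₁.2 X₂.2) _ Y.2) (inv_mem (hbr _ X₁.2 _ Y.2))
      convert this using 1
      simp only [commutatorElement_def]; group
    rw [mul_comm (f X₁ Y)]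
    show N _ = N _ * N _
    rw [← hNconj _ X₁.2 ⟨_, hbr _ X₂.2 _ Y.2⟩ hm, ← map_mul]
    refine congrArg N (Subtype.ext ?_)
    show ⁅(X₁ : Γ) * X₂, (Y : Γ)⁆ = (X₁ : Γ) * ⁅(X₂ : Γ), (Y : Γ)⁆ * (X₁ : Γ)⁻¹ * ⁅(X₁ : Γ), (Y : Γ)⁆
    simp only [commutatorElement_def]; group
  have fsymm : ∀ X Y, f X Y = (f Y X)⁻¹ := fun X Y => by
    show N _ = (N _)⁻¹
    rw [← map_inv]
    exact congrArg N (Subtype.ext (commutatorElement_inv (Y : Γ) (X : Γ)).symm)
  have fA : ∀ (w : R), (w : Γ) ∈ A → ∀ Y, f w Y = 1 := by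
    rintro ⟨w, hwR⟩ hw ⟨Y, hY⟩
    have hm : Y * w⁻¹ * Y⁻¹ ∈ A := by
      have := mul_mem (inv_mem hw) (hbr _ hwR _ hY)
      convert this using 1
      simp only [commutatorElement_def]; group
    have e : (⟨⁅w, Y⁆, hbr _ hwR _ hY⟩ : A) = ⟨w, hw⟩ * ⟨Y * w⁻¹ * Y⁻¹, hm⟩ :=
      Subtype.ext (by simp only [commutatorElement_def, Subgroup.coe_mul]; group)
    show N _ = 1
    have e2 : N ⟨Y * w⁻¹ * Y⁻¹, hm⟩ = N (⟨w, hw⟩⁻¹) := hNconj Y hY (⟨w, hw⟩⁻¹) hm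
    rw [e, map_mul, e2, map_inv, mul_inv_cancel]
  let TR : K → R := fun t => ⟨T t, ⟨t, 0, 0, hT t⟩⟩
  have fred : ∀ (X : R) t u v, σ (X : Γ) = rg hθ t u v → ∀ Y, f X Y = f (TR t) Y := fun X t u v hX Y => by
    have e : X = TR t * ((TR t)⁻¹ * X) := by group
    conv_lhs => rw [e]
    rw [fmul, fA ((TR t)⁻¹ * X) (hdecR _ t u v hX), mul_one]
  have hg0 : ∀ t t', f (TR t) (TR t') = 1 := by
    have hl : ∀ a a' c, f (TR (a + a')) (TR c) = f (TR a) (TR c) * f (TR a') (TR c) := fun a a' c => by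
      rw [← fmul]
      have e : σ ((TR a * TR a' : R) : Γ) = rg hθ (a + a') (0 + 0 - θ a' ^ 3 * a)
          (0 + 0 - θ a' ^ 3 * a ^ 2 - a' * (0 - θ a' ^ 3 * a)) := by
        show σ (T a * T a') = _
        rw [map_mul, hT, hT, rg_mul]
      exact (fred _ _ _ _ e _).symm
    refine eq_one_weight_id (fun t t' => f (TR t) (TR t')) hl (fun a c c' => ?_) hq (fun k hk a c => ?_)
    · rw [fsymm, hl, mul_inv, ← fsymm, ← fsymm]
    · show N _ = N _
      refine (congrArg N (Subtype.ext ?_)).trans (hNj (Units.mk0 k hk) _)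
      show ⁅T (k * a), T (k * c)⁆ = J (Units.mk0 k hk) * ⁅T a, T c⁆ * (J (Units.mk0 k hk))⁻¹
      rw [conjugate_commutatorElement]
      exact SchurTrivial.comm_congr hc
        (by rw [map_mul, map_mul, map_inv, jT, mul_inv_cancel_right]; rfl)
        (by rw [map_mul, map_mul, map_inv, jT, mul_inv_cancel_right]; rfl)
  have hf : ∀ X Y, f X Y = 1 := by
    intro X Y
    obtain ⟨t, u, v, hX⟩ := X.2
    obtain ⟨t', u', v', hY⟩ := Y.2
    rw [fred X t u v hX, fsymm, fred Y t' u' v' hY, hg0, inv_one]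
  -- conclude
  obtain ⟨Q, hQ⟩ : ∃ Q : Sylow 3 ↥(fixG θ), (Q : Subgroup ↥(fixG θ)) ≤ Uf θ := by
    have hU3 : Nat.card ↥(Uf θ) = 3 ^ (3 * (2 * m + 1)) := by
      rw [Nat.card_congr (Subgroup.subgroupOfEquivOfLe
        (show Cfsg.Lie.chevG2.posUnipotent K ⊓ fixG θ ≤ fixG θ from inf_le_right)).toEquiv,
        card_Uf hθ, hK, ← pow_mul, mul_comm]
    obtain ⟨Q, hQ⟩ := (IsPGroup.of_card hU3).exists_le_sylow
    refine ⟨Q, le_of_eq (Subgroup.eq_of_le_of_card_ge hQ ?_).symm⟩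
    rw [Q.card_eq_multiplicity, hU3, card_fixG hθ, hK, ← pow_mul]
    have h3 : 3 ∣ 3 ^ (2 * m + 1) := dvd_pow_self 3 (by omega)
    have h1 : 1 ≤ 3 ^ (2 * m + 1) := Nat.one_le_pow _ _ (by norm_num)
    have hp : ¬ 3 ∣ (3 ^ (2 * m + 1) - 1) * (3 ^ ((2 * m + 1) * 3) + 1) := by
      rw [Nat.prime_three.dvd_mul]
      have : 3 ∣ 3 ^ ((2 * m + 1) * 3) := dvd_pow_self 3 (by omega)
      rintro (h | h) <;> omega
    rw [mul_assoc, Nat.factorization_mul (by positivity) (fun e => hp (by rw [e]; exact dvd_zero 3)),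
      Finsupp.add_apply, Nat.Prime.factorization_pow Nat.prime_three, Finsupp.single_eq_same,
      Nat.factorization_eq_zero_of_not_dvd hp, add_zero, mul_comm 3]
  obtain ⟨P, hP⟩ := SchurBound.exists_sylow_map_eq σ hs Q
  refine SchurSylow.not_dvd_card_ker σ hc hd P fun y hy hy1 => ?_
  have hPR : (P : Subgroup Γ) ≤ R := fun g hg => by
    have : σ g ∈ Uf θ := hQ (hP ▸ mem_map_of_mem σ hg)
    obtain ⟨t, u, v, e⟩ := (mem_Uf hθ).1 this
    exact ⟨t, u, v, Subtype.ext e⟩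
  have hder : (_root_.commutator (P : Subgroup Γ)).map (P : Subgroup Γ).subtype ≤ N.ker.map A.subtype := by
    rw [_root_.commutator_def, Subgroup.map_commutator, Subgroup.commutator_le]
    rintro _ ⟨X, -, rfl⟩ _ ⟨Y, -, rfl⟩
    exact ⟨⟨_, hbr _ (hPR X.2) _ (hPR Y.2)⟩, hf ⟨X, hPR X.2⟩ ⟨Y, hPR Y.2⟩, rfl⟩
  obtain ⟨z, hz, hzy⟩ := hder (mem_map_of_mem _ hy)
  have hzk : ∀ k, cj k z = z := fun k => Subtype.ext (by
    show J k * (z : Γ) * (J k)⁻¹ = z
    rw [mem_center_iff.1 (hc (show σ (z : Γ) = 1 by rw [show (z : Γ) = (y : Γ) from hzy]; exact hy1)) (J k),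
      mul_inv_cancel_right])
  have hN : N z = z ^ Fintype.card Kˣ := by
    show ∏ k : Kˣ, cj k z = _
    simp only [hzk, Finset.prod_const, Finset.card_univ]
  have hyN : y ^ Fintype.card Kˣ = 1 := by
    apply Subtype.ext
    have := congrArg (fun w : A => (w : Γ)) (hN.symm.trans (MonoidHom.mem_ker.1 hz))
    simpa [show (z : Γ) = (y : Γ) from hzy] using this
  obtain ⟨e, he⟩ := P.isPGroup' y
  have hcop : Nat.Coprime (Fintype.card Kˣ) (3 ^ e) := by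
    refine Nat.Coprime.pow_right e ((Nat.prime_three.coprime_iff_not_dvd.2 ?_).symm)
    rw [Fintype.card_units, hK]
    have h3 : 3 ∣ 3 ^ (2 * m + 1) := dvd_pow_self 3 (by omega)
    have h1 : 1 ≤ 3 ^ (2 * m + 1) := Nat.one_le_pow _ _ (by norm_num)
    omega
  have := (pow_gcd_eq_one (a := y)).2 ⟨hyN, he⟩
  rwa [hcop.gcd_eq_one, pow_one] at this

end CfsgLib.ReeMultiplier
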